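/- S5210, `q = 3`: the 54 minimal vectors of `E₆*`, reflections, parabolic subgroups. -/
import Mathlib
import Cfsg.Agent.SPOR.KComp
import Cfsg.Agent.PLOC.ElemAb

set_option autoImplicit false
set_option maxRecDepth 100000

namespace CL.U4.C3
open CL.K

def DT : ℕ := 0x86535265656565232323263525623362523565535535635033333268353056565656323232352636532253632653353353253255525653862565656565232323236252356635256235535535635333033235680356565656323232325363265526365323353353253555225653208532323232565656563525623362523565535535635333663220535832323232565656536252356635256235535535635633363265653386565356323532052633535526335356356353526222225356562268653565235323263525353635253535265265362333303565653356865653353202355336532553365326353626553225222356562265686535532320233555623335556235262532335336336565653353568656320232325363535253635353623623526255255356562235656865232023536255353362553532532535362366333565653356535686023235355333265553332653626356553252222356562265356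568202353233552356335523562535262335363336523235532353202865653533555623335556235262532335636666532326623532320686535655336532553365326353626553525552323235535320232568656563525353635253535265265362633633532326653232023656865352633535526335356356353526522555323235532023235535686533552356335523562535262335663666532326623202353356568655333265553332653626356553552552323235502323532565356836255353362553532532535362666663565326356532353356535382606532553332656356356553222522332653623535653353235628063265553365323623626553555252356235265353235535653260825623335523565265262335333636523562532356535532353506282356335556232532532335666366556235235653532565323563528620362553535262535362336633565326353565323653532352636802253635356353623526225555323562535323565235356536252086635253532535265362663333532653653235356323565325360268526335353626353526552255332653656532353356535355333265826065326356356553522222365326323535653353235655336532280632653623626553255552323562565353235535653233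5523566082562352652623356333365562352323565355323535335556230628235625325323353666665235625356535325653235362553536352862052625353626363335326536535653236535323253635355263680263536235265252553562352353235652353565635253533625208625352653623636335653263532353563235653526335352536026836263535262525553535355656532325656232635256236352562382655356353033332535355323265652323565362523563625235628055356353633632353533565623236565323526365325263653260833532535255256535355653232652356562635223566352235655382656353303332535355326565325623235362556233625562355328056353363632353533562323563265653526332655263326533560832535525256535355356235622653265662253536622535355355386623333302626266535353533535353553335355533353566266268262222520353533265326533562356553362625533626233533562805555226535355623562355326532335526263355262655355326083333662023536232323236565656253632655263653233533532538555556353533232356563232656253632652536326506233532535855556353533235656236532326253665322536653233506232535585556350263232323236565656526365322536326533533532535558556323266202353236535656253635352536353536236235265555853353533532653266235623226635352266353533533502265555586262622353535355353535335553533355535322622620626666368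
def RT : ℕ := 0xd74cf2c70beea68aeab6c8e29649e68607de7524544d85d655a65c6cd30b40f38a2481c61050c2040cf2d74c31beeb6caeaa689e69648e28585d65544d24607de75c6da6503ce34c2ca2481c3144182040d7440e3f0beeb6c6dc81e75f6998e28699a89eaae59185d65544d2473c7234c2ca2481c60c4142040d7434b330bee81e452a689e651375f86d8ac8dc6da6585d656592aad03cecf1c8a2481c6143102040c43c06d739259a70a18a3b2dbafa29aa07de75c6da6585d65544d24503ce34c2ca2481f2144d2b040d74cf2c70aeab6cbeea689e68428e295761559c6da65f81d7944d244c3443d014a2481c62ce0e40403c5cf2c5065a7ddaeaa689e69647a0722b63b210aebd85d65544d2470d4634c2ca2481ced040db040d743043706dcb6caea5d55989648e26a07de76ebe10a6a67a144d24503cec730ca2481c61722d9040d743c54304525d5aeaa689e69645985207de75c6da662b63b210aebf1cc334c2ca2481c6c84393040304cf2c4d4d4b6caea7dd7a09648e24a6a67a1c6da6585d656ebe10903cec3518a2481cb1740d10401c1cf2c4abd64ecadd6687269604a28647deaa76daa580ae554b634503ce34c2f0246d481440d7d00d741c12b0bde6ecad54685269586a28600ae75cb636645d6aa74d2a503ce34c2f1243cc61442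1fc80d74cf2c70be8aecb6aa6e9c28e49628517de5156da6195d671d4d280728134c2cf2454062040e6380d74cf2c70becb6ea6aae89669e48c285b7de69c81d6535d64946154503ce1ca04c2443461480e22c0288cf2c4762eb547eaa5a9db7a48d1560ae575c9a866f5d686c4d28903ce34c2f5274c011440c2180d74cf2c70a6eb6aaecbe88669628e49e04d275c5d66586da5547de44a1c834c2d024e3c60440c2140d74cf2c70b6ebecae8a6a9e49668628e065c75e6da7d84545564d25d03ce28720d24b3061410c2100d742881f082eb5c5eaa529d35a48d976f7de86c6da898ae55549a84503ce34c2f3272c461440420c0574772c7004012caea1684269643622837decdc6da6465d6d544d24673ce8cc2e10881d8a6d809bee4b46b2c702ee20016aa689e64241c93207de75c0f36585d65541b54653ce361bca8ad8d3ac46c206c7b45b2c70bee3ac0402e83262893e28601b575c6da6580f35544d24508ed367a659081df1445c2aea734532c703aeb6c12a2001c93648e23e07de7756da1985d65734d20d086f94c2ca9a99d916b442068d5bcd349abd0b6cacc24700894b8e28607de75cd306585d6554cb146e3ce36a90aa66a060840c5067d60cd855dbeeb5024aa4d9c40018c58747dec1c6da6725d6c544d246c3cea0c2eaac81c68a60c2925d51cd97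14bcd247acfa689e694e0088607de7716dac985d65704d2d10aa4b8c2cab62b061420c4063d57cdf79624ab4caeaa4f9ce9648cb020cb175c6da658d305544d2450a2636c8aebc81c61440c10a1ab4cef870caeb6caf5a689e69468e2c482401dc10d6585d65504d21543ce68c2ca7e076445b0c205ed6bbb2c65bf3b6cd2aa689e6c248e284920700c6da2d85d655438f45049335c64a81f78614408305da34ced8f0beecacaeaa759c6964c6284b7de30004a2581505544d24563ce35d81a6481e65c40c26dcd69b32c67beeb73aead28c269648c386010d74a24004e5d63d44d245055878c2dc6c81c615f88265ad6fab2c61d2eb6caf3a689e69438e2c207de7506da1482401d410d45c3ce48c2ca5d8546653902056bb4ceb970bf5b6ccaaa689e6c648e28607de75c38f64920700c4d22d069b35444a6175821440c6055d6da32c63beed2caeaa739c3964c2286015075c6da64b5d630004a25e3ce3556124481c67c49824d4b34ce99f0beeb75aeaca8c669648c684e7de3dc6da65810d54a24005076058c2d44c81e21570c245234bcf2c4cbee61665aa689e671b5578607de76592aaed8ac8d44d24503ced70d0a2481c41460c204040ecf2c4fbeeb6c4d46165574918e28607de75c6da6699a89eaae5935c3434c2ca2481c51840c2040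
def TT : ℕ := 0x8e28217de69b71d65859755351244e3d02cc34a2480831441870018e20017de6da75c6195d64944d54503ce34c2ca1440c22481c682180086375c7de6da6576165524d44501c92062ca38d3cc1440c20628418e069b75c79f6565d855449344908e34320a40b1c614430f8808e275a7de8410204955d66144d930d28b41138f2481c61440c271b8e271b7de0618006584d45565d23d044e34a2cc1051c62090c275a69b7e084175c8a35185565d94d21883ce34c2472d02911440c27806da7a006175c8e26535d25546161d03c414c2c624844a34e0c27c071d85e0208a36da6544965584d70843ce34c1432481c62d029105f75c85f8008e26da4d85d55946520d03c824c2c234e1c614444a05e8d886049e51c6d366200155d69f15020e1cc08a24f3464440cb5978d95d655e75351a8988607db71225010e0cc18a4481cb14f3420405a26207d355c49a0215e375479b3903d134b30a2431061472020595e28587d47526d50608d669e4dc4113ce30d2ca2461c81420c46408d286061e5dc6d665f75a5400624433c63492c43081ce14a4024d44e24a07d665c61a75b5de0148e144f40e28c2cd0881c51840c90555228527d77586d969c7960634e045038f34c28b1c82460c41425408d551365e7565da7d86dc8a18124473c23452c824a4063040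ce0408e286030f1870831493905544d245679735f2ca60871d64469b0403a284935e21c11a6585d10cf4c75905237cc2ca81d48605b5421408e21c229175c6da2045d65503927943d334c2df2598411580201834222602de7446c86584561943c25e34ce34c7ca85a1d501c0d20452e222041e7456c91c35cc54a4d245f3ce3568d46a16467006020448e218344a75c6da6582cd2544c57d03ce58c5de5480614848001c236284839e25c15a0863165542924503df8d72d37601d86c10d91008e28603cc1c60c26585d610d2c84507ce51e4ca25275c1556da0408c53907c42dc6cd6515d63021d26203e169574a2484c689e0d40408c434b7c541c6ce3d80c65544ca45d65a84c8122481d67a25c20400833e07de2916da35811655425071284e6412dd4c81c61578a33000c23207de44a6da64b5c83854d275005536161c2561c65048e23c08c98607c874d2da4585d65460cc6413c07126ca89e1d41444c240e8c88607c974e41a64f1c22944d245b61c00c0557a25c61440d62cd18784c7de75c29164d21641415269500e6202db2578a34c40c204f1c684f7de75c44a2d85c45494ce6d081234065a5088e21560c204c02086271d79f6da5985d94d455244518e34710a24830f40b0c20630618a06da75c7de5d86565154d24500c51022ca2481c638d3cc8c0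
def IT : ℕ := 0x1030c3082082082041041041041000000000000000000000000185
def JT : ℕ := 0x146144ae46d94d1d3238b185103bacaa89e58e179d71a595512106
def NT : ℕ := 0x1b00f1cb48428e29649e6a68aeab6cbdd79f81969b71559761149350538f10b30100723540dcee289
def GT : ℕ := 0xffffc0003ffc016b33866fbc16b89939ec7b866f83e9789ac778b7ffc0294cff003dd2eff03c0b9dfffc000003866f8000389801683380039c06b802c03897f000090cff03c0000389ac40003899380003f003c0003802c34023f00014223864014123800382c13864002a13f0000291386402804b89800844b802c0814b80100a85b8980210878640014878003812878000550a7f00000003898000003864000003802c0000380038000380001402380000281380000804b800001087800000003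

/-- inner product of the vectors `i, j < 54`, plus `4` -/
def Dn (i j : ℕ) : ℕ := fld 4 15 DT (54 * i + j)
/-- image of the vector `i` under the reflection `k < 36` -/
def Rn (k i : ℕ) : ℕ := fld 6 63 RT (54 * k + i)
/-- the conjugate of the reflection `b` by the reflection `a` -/
def Tn (a b : ℕ) : ℕ := fld 6 63 TT (36 * a + b)
/-- the root `k` is the difference of the vectors `ri k` and `rj k` -/
def ri (k : ℕ) : ℕ := fld 6 63 IT k
def rj (k : ℕ) : ℕ := fld 6 63 JT k
/-- the negative of a vector -/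
def Ng (i : ℕ) : ℕ := fld 6 63 NT i
/-- the `43` root systems (as sets of reflections) of type `A₂ ≤ A₃, A₄, D₄, D₅`, by increasing size -/
def GS (c : ℕ) : ℕ := fld 36 0xfffffffff GT c

theorem Rn_lt : ∀ k < 36, ∀ i < 54, Rn k i < 54 := by decide +kernel
theorem Rn_Rn : ∀ k < 36, ∀ i < 54, Rn k (Rn k i) = i := by decide +kernel
theorem Tn_lt : ∀ a < 36, ∀ b < 36, Tn a b < 36 := by decide +kernel
theorem Ng_lt : ∀ i < 54, Ng i < 54 := by decide +kernel
theorem Ng_Ng : ∀ i < 54, Ng (Ng i) = i := by decide +kernel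

abbrev Pm := Equiv.Perm (Fin 54)

/-- isometries -/
def Iso (a : Pm) : Prop := ∀ i j, Dn (a i) (a j) = Dn i j

/-- the reflections -/
def sr (k : Fin 36) : Pm := Function.Involutive.toPerm (fun i => ⟨Rn k i, Rn_lt _ k.2 _ i.2⟩)
  fun i => Fin.ext (Rn_Rn _ k.2 _ i.2)

/-- minus one -/
def ng : Pm := Function.Involutive.toPerm (fun i => ⟨Ng i, Ng_lt _ i.2⟩) fun i => Fin.ext (Ng_Ng _ i.2)

/-- conjugation of reflections -/
def tn (a b : Fin 36) : Fin 36 := ⟨Tn a b, Tn_lt _ a.2 _ b.2⟩

theorem sr_val (k : Fin 36) (i : Fin 54) : (sr k i : ℕ) = Rn k i := rfl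
theorem ng_val (i : Fin 54) : (ng i : ℕ) = Ng i := rfl
theorem sr_sr (k : Fin 36) : sr k * sr k = 1 := Equiv.ext fun i => Fin.ext (Rn_Rn _ k.2 _ i.2)
theorem sr_inv (k : Fin 36) : (sr k)⁻¹ = sr k := inv_eq_of_mul_eq_one_right (sr_sr k)
theorem Iso.one : Iso 1 := fun _ _ => rfl
theorem Iso.mul {a b : Pm} (ha : Iso a) (hb : Iso b) : Iso (a * b) := fun i j => (ha _ _).trans (hb i j)
theorem Iso.inv {a : Pm} (ha : Iso a) : Iso a⁻¹ := fun i j => by rw [← ha]; simp

/-- STUB `U4/CE6` (kernel checks with `allLt`/`anyLt`/`orLt` of `CL.K` and `decide +kernel`; all checked in python).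
Check `∀ k < 36, ∀ i j < 54, Dn (Rn k i) (Rn k j) = Dn i j`. -/
theorem iso_sr (k : Fin 36) : Iso (sr k) := by
  intro i j
  have := allLt_iff.1 (allLt_iff.1 (show allLt (fun k => allLt (fun i => force (Rn k i) fun a =>
    allLt (fun j => Nat.beq (Dn a (Rn k j)) (Dn i j)) 54) 54) 36 = true by decide +kernel) k k.2) i i.2
  rw [force_eq] at this
  exact Nat.eq_of_beq_eq_true (allLt_iff.1 this j j.2)

theorem iso_ng : Iso ng := by
  intro i j
  exact Nat.eq_of_beq_eq_true (allLt_iff.1 (allLt_iff.1 (show allLt (fun i =>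
    allLt (fun j => Nat.beq (Dn (Ng i) (Ng j)) (Dn i j)) 54) 54 = true by decide +kernel) i i.2) j j.2)

/-- check: `p < 54`, `Dn p b = Dn l b` for all `b < 6` gives `p = l` -/
theorem Iso.ext6 {a : Pm} (ha : Iso a) (h : ∀ i : Fin 54, i.val < 6 → a i = i) : a = 1 := by
  refine Equiv.ext fun l => Fin.ext ((by decide +kernel : ∀ p < 54, ∀ l < 54, (∀ b < 6, Dn p b = Dn l b) → p = l)
    _ (a l).2 _ l.2 fun b hb => ?_)
  have := ha l ⟨b, by omega⟩
  rwa [h ⟨b, by omega⟩ hb] at this

/-- check on the points `< 6` only, `ext6` for `(sr (tn a b))⁻¹ * …` -/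
theorem sr_conj (a b : Fin 36) : sr a * sr b * sr a = sr (tn a b) := by
  exact Equiv.ext fun i => Fin.ext (Nat.eq_of_beq_eq_true (allLt_iff.1 (allLt_iff.1 (allLt_iff.1
    (show allLt (fun a => allLt (fun b => allLt (fun i => Nat.beq (Rn a (Rn b (Rn a i))) (Rn (Tn a b) i)) 54) 36) 36 = true by
      decide +kernel) a a.2) b b.2) i i.2))

/-- check `Rn k' (ri k) = rj k → k' = k`, `Rn k (ri k) = rj k` -/
theorem sr_inj {k k' : Fin 36} (h : sr k = sr k') : k = k' := by
  have := (by decide +kernel : ∀ k < 36, ri k < 54 ∧ ∀ k' < 36, Rn k (ri k) = Rn k' (ri k) → k = k') k k.2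
  exact Fin.ext (this.2 k' k'.2 (congrArg (fun a : Pm => (a ⟨_, this.1⟩).val) h))

namespace CE6

/-- `k` lies in `C` and fixes the points below `l` -/
noncomputable def okb (C l k : ℕ) : Bool := Nat.testBit C k && allLt (fun b => Nat.beq (Rn k b) b) l

/-- the check of the parabolic lemma -/
noncomputable def parB (fx C : ℕ) : Bool := allLt (fun l => allLt (fun p =>
  !allLt (fun b => !(Nat.testBit fx b || Nat.blt b l) || Nat.beq (Dn p b) (Dn l b)) 54 || (Nat.beq p l ||
    anyLt (fun k => okb C l k && force (Rn k p) fun q => Nat.beq q l ||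
      anyLt (fun k' => Nat.beq (Rn k' q) l && okb C l k') 36) 36)) 54) 6

/-- the reflections fixing the vector `0` -/
def st0 : ℕ := 68719214595

theorem gs0 (k : Fin 36) (h : (GS 0).testBit k = true) : k = 0 ∨ k = 1 ∨ k = tn 0 1 := by
  revert k; decide +kernel

theorem comm_iff {a b : Fin 36} : Commute (sr a) (sr b) ↔ tn a b = b := by
  refine ⟨fun h => sr_inj ?_, fun h => ?_⟩
  · rw [← sr_conj, h.eq, mul_assoc, sr_sr, mul_one]
  · have := sr_conj a b
    rw [h, ← eq_mul_inv_iff_mul_eq, sr_inv] at this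
    exact this

theorem cube {a b : Fin 36} (h : ¬ Commute (sr a) (sr b)) : (sr a * sr b) ^ 3 = 1 := by
  have e := (by decide +kernel : ∀ a b : Fin 36, tn a b ≠ b → tn a b = tn b a) a b (mt comm_iff.2 h)
  calc _ = sr a * sr b * sr a * (sr b * sr a * sr b) := by simp only [pow_succ, pow_zero, one_mul, mul_assoc]
    _ = 1 := by rw [sr_conj, sr_conj, e, sr_sr]

theorem nine {X : Subgroup Pm} {a b c d : Fin 36} (ha : sr a ∈ X) (hb : sr b ∈ X) (hc : sr c ∈ X) (hd : sr d ∈ X)
    (n1 : ¬ Commute (sr a) (sr b)) (n2 : ¬ Commute (sr c) (sr d)) (c1 : Commute (sr a) (sr c))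
    (c2 : Commute (sr a) (sr d)) (c3 : Commute (sr b) (sr c)) (c4 : Commute (sr b) (sr d)) : 9 ∣ Nat.card X := by
  have : Fact (Nat.Prime 3) := ⟨Nat.prime_three⟩
  have ne : ∀ {a b}, ¬ Commute (sr a) (sr b) → sr a * sr b ≠ 1 := fun n e => n (by
    rw [eq_inv_of_mul_eq_one_left e]; exact (Commute.refl _).inv_left)
  have c5 := c1.mul_right c2
  have c6 := c5.mul_left (c3.mul_right c4)
  have E := CL.Th.elemAb_closure (p := 3) (s := {sr a * sr b, sr c * sr d}) (by
    rintro _ (rfl | rfl) _ (rfl | rfl)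
    exacts [rfl, c6, c6.symm, rfl]) (by rintro _ (rfl | rfl); exacts [cube n1, cube n2])
  obtain ⟨n, hn⟩ := IsPGroup.iff_card.1 (show IsPGroup 3 (Subgroup.closure {sr a * sr b, sr c * sr d}) from
    fun x => ⟨1, Subtype.ext (by simpa using E.2 x x.2)⟩)
  refine dvd_trans (hn ▸ pow_dvd_pow 3 (show 2 ≤ n from by_contra fun h => ?_))
    (Subgroup.card_dvd_of_le ((Subgroup.closure_le _).2 (by
      rintro _ (rfl | rfl); exacts [mul_mem ha hb, mul_mem hc hd])))
  have e := Subgroup.eq_of_le_of_card_ge (Subgroup.zpowers_le.2 (Subgroup.subset_closure (Set.mem_insert _ _)) :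
    Subgroup.zpowers (sr a * sr b) ≤ Subgroup.closure {sr a * sr b, sr c * sr d}) (by
      rw [hn, Nat.card_zpowers, orderOf_eq_prime (cube n1) (ne n1)]
      exact (Nat.pow_le_pow_right (by decide) (by omega : n ≤ 1)).trans_eq (pow_one 3))
  obtain ⟨k, hk⟩ := e.ge (Subgroup.subset_closure (Set.mem_insert_of_mem _ rfl))
  have f : sr a * (sr a * sr b) * (sr a)⁻¹ = (sr a * sr b)⁻¹ := by
    rw [← mul_assoc, sr_sr, one_mul, mul_inv_rev, sr_inv b]
  have g : sr c * sr d = (sr c * sr d)⁻¹ := by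
    nth_rw 1 [← mul_inv_eq_iff_eq_mul.2 c5.eq]
    rw [← show (sr a * sr b) ^ k = sr c * sr d from hk, ← conj_zpow, f, inv_zpow]
  refine ne n2 ?_
  have := cube n2
  rwa [pow_succ, pow_two, mul_eq_one_iff_eq_inv.2 g, one_mul] at this

theorem tb2 {a b : ℕ} (h : (Nat.pow 2 a).testBit b = true) : a = b := by
  simpa [Nat.testBit_two_pow] using h

/-- one round of conjugation -/
noncomputable def orb (C N : ℕ) : ℕ := Nat.lor N (orLt (fun b => cond (Nat.testBit N b)
  (orLt (fun a => cond (Nat.testBit C a) (Nat.pow 2 (Tn a b)) 0) 36) 0) 36)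

theorem orb_sub {Ψ : Fin 36 → Prop} (cl : ∀ a b, Ψ a → Ψ b → Ψ (tn a b)) {C N : ℕ}
    (hC : ∀ k : Fin 36, C.testBit k = true → Ψ k) (hN : ∀ k : Fin 36, N.testBit k = true → Ψ k) (k : Fin 36)
    (h : (orb C N).testBit k = true) : Ψ k := by
  refine (Bool.or_eq_true_iff.1 ((Nat.testBit_or _ _ _).symm.trans h)).elim (hN k) fun h => ?_
  obtain ⟨b, hb, h⟩ := (testBit_orLt _ _ _).1 h
  cases e : N.testBit b
  · simp [e] at h
  rw [e, cond_true] at h
  obtain ⟨a, ha, h⟩ := (testBit_orLt _ _ _).1 h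
  cases f : C.testBit a
  · simp [f] at h
  rw [f, cond_true] at h
  rw [show k = tn ⟨a, ha⟩ ⟨b, hb⟩ from Fin.ext (tb2 h).symm]
  exact cl _ _ (hC ⟨a, ha⟩ f) (hN ⟨b, hb⟩ e)

/-- the vectors fixed by the reflections in `C` -/
noncomputable def fxm (C : ℕ) : ℕ :=
  orLt (fun i => cond (allLt (fun k => !Nat.testBit C k || Nat.beq (Rn k i) i) 36) (Nat.pow 2 i) 0) 54

theorem fxm_aux {C i : ℕ} : (fxm C).testBit i = true ↔
    i < 54 ∧ allLt (fun k => !Nat.testBit C k || Nat.beq (Rn k i) i) 36 = true := by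
  rw [fxm, testBit_orLt]
  refine ⟨fun ⟨j, hj, h⟩ => ?_, fun h => ⟨i, h.1, by rw [h.2]; exact Nat.testBit_two_pow_self⟩⟩
  cases e : allLt (fun k => !Nat.testBit C k || Nat.beq (Rn k j) j) 36
  · simp [e] at h
  rw [e, cond_true] at h
  exact tb2 h ▸ ⟨hj, e⟩

theorem fxm_lt {C i : ℕ} (h : (fxm C).testBit i = true) : i < 54 := (fxm_aux.1 h).1

theorem fxm_iff (C : ℕ) (i : Fin 54) :
    (fxm C).testBit i = true ↔ ∀ k : Fin 36, C.testBit k = true → sr k i = i := by
  simp only [fxm_aux, i.2, true_and, allLt_iff, Bool.or_eq_true, Bool.not_eq_true', Nat.beq_eq, Fin.ext_iff, sr_val]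
  exact ⟨fun h k hk => (h k k.2).resolve_left (by simp [hk]), fun h k hk =>
    (Bool.eq_false_or_eq_true _).symm.imp_right (h ⟨k, hk⟩)⟩

theorem chkC : allLt (fun c => force (GS c) fun C => allLt (fun k => Nat.testBit C k ||
    !anyLt (fun j => Nat.testBit C j && !Nat.beq (Tn k j) j) 36 || force (orb C (Nat.pow 2 k)) fun N =>
      force (Nat.lor C (orb C N)) fun m => anyLt (fun c' => Nat.blt c c' && Nat.beq (Nat.land (GS c') m) (GS c')) 43 ||
        (Nat.testBit m 9 && Nat.testBit m 17) || (Nat.testBit m 8 && Nat.testBit m 10)) 36) 43 = true := by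
  decide +kernel

theorem chkD : allLt (fun c => force (GS c) fun C => force (fxm C) fun fx => !Nat.beq fx 0 && parB fx C &&
    Nat.testBit C 0 && Nat.testBit C 1) 43 = true := by decide +kernel

end CE6

/-- the parabolic lemma -/
theorem par {X : Subgroup Pm} {fx C : ℕ} (hp : CE6.parB fx C = true)
    (hC : ∀ k : Fin 36, C.testBit k = true → sr k ∈ X ∧ ∀ i : Fin 54, fx.testBit i = true → sr k i = i) {a : Pm}
    (ha : Iso a) (h : ∀ i : Fin 54, fx.testBit i = true → a i = i) : a ∈ X := by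
  suffices ∀ n ≤ 6, ∀ a, Iso a → (∀ i : Fin 54, fx.testBit i = true → a i = i) →
      (∀ i : Fin 54, i.val < 6 - n → a i = i) → a ∈ X from this 6 le_rfl a ha h (by simp)
  intro n
  induction n with
  | zero => exact fun _ a ha _ h => ha.ext6 h ▸ one_mem _
  | succ n ih =>
    intro hn a ha h1 h2
    obtain ⟨l, hl, e1, e2⟩ : ∃ l : Fin 54, l.val < 6 ∧ 6 - (n + 1) = l ∧ 6 - n = l + 1 :=
      ⟨⟨6 - (n + 1), by omega⟩, by simp only; omega, rfl, by simp only; omega⟩
    rw [e1] at h2
    have ih' : ∀ a, Iso a → (∀ i : Fin 54, fx.testBit i = true → a i = i) → (∀ i : Fin 54, i.val < l → a i = i) →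
        (a l : ℕ) = l → a ∈ X := fun a ha h1 h2 h3 => ih (by omega) a ha h1 fun i hi =>
      (Nat.lt_succ_iff_lt_or_eq.1 (show i.val < l + 1 by omega)).elim (h2 i) fun e => by rw [Fin.ext e]; exact Fin.ext h3
    have ok : ∀ k (hk : k < 36), CE6.okb C l k = true → ∀ {a}, (∀ i : Fin 54, fx.testBit i = true → a i = i) →
        (∀ i : Fin 54, i.val < l → a i = i) → sr ⟨k, hk⟩ ∈ X ∧ (∀ i : Fin 54, fx.testBit i = true → (sr ⟨k, hk⟩ * a) i = i) ∧
          ∀ i : Fin 54, i.val < l → (sr ⟨k, hk⟩ * a) i = i := fun k hk o a h1 h2 => by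
      rw [CE6.okb, Bool.and_eq_true, allLt_iff] at o
      exact ⟨(hC ⟨k, hk⟩ o.1).1, fun i hi => by rw [Equiv.Perm.mul_apply, h1 i hi, (hC ⟨k, hk⟩ o.1).2 i hi],
        fun i hi => by rw [Equiv.Perm.mul_apply, h2 i hi]; exact Fin.ext (Nat.eq_of_beq_eq_true (o.2 i hi))⟩
    have := allLt_iff.1 (allLt_iff.1 hp l hl) _ (a l).2
    simp only [force_eq, Bool.or_eq_true, Bool.and_eq_true, Bool.not_eq_true', ← Bool.not_eq_true, Nat.beq_eq, anyLt_iff,
      allLt_iff, Nat.blt_eq] at this
    rcases this with e | e | ⟨k, hk, o, e | ⟨k', hk', e, o'⟩⟩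
    · refine absurd (fun b hb => or_iff_not_imp_left.2 fun f => ?_) e
      have := ha l ⟨b, hb⟩
      rwa [(not_not.1 f).elim (h1 ⟨b, hb⟩) (h2 ⟨b, hb⟩)] at this
    · exact ih' a ha h1 h2 e
    · obtain ⟨m, p1, p2⟩ := ok k hk o h1 h2
      exact (mul_mem_cancel_left m).1 (ih' _ ((iso_sr _).mul ha) p1 p2 e)
    · obtain ⟨m, p1, p2⟩ := ok k hk o h1 h2
      obtain ⟨m', q1, q2⟩ := ok k' hk' o' p1 p2
      exact (mul_mem_cancel_left m).1 ((mul_mem_cancel_left m').1 (ih' _ ((iso_sr _).mul ((iso_sr _).mul ha)) q1 q2 e))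

/-- Write `P p k = Dn p (ri k) - Dn p (rj k)` (in `ℤ`).  Checks: (1) `ri k, rj k < 54`, `Dn (ri k) (rj k) = 5`;
(2) `3 Dn (Rn k p) l = 3 Dn p l - P p k * P l k` (in `ℕ`: `3 Dn (Rn k p) l + a c + b e = 3 Dn p l + a e + b c`, `a, b = Dn p (ri k), Dn p (rj k)`,
`c, e = Dn l (ri k), Dn l (rj k)`); (3) `Dn i j = 5 → ∃ k' < 36, (∀ l, Dn l i - Dn l j = P l k') ∨ (∀ l, Dn l i - Dn l j = - P l k')`;
(4) `Dn p p = 8`, `Dn p l = 8 → p = l`.  For `σ = a * sr k * a⁻¹`, `(i, j) = (a (ri k), a (rj k))`: `Dn (σ p) l = Dn (sr k' p) l`, take `l = sr k' p`. -/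
theorem refl_conj {a : Pm} (ha : Iso a) (k : Fin 36) : ∃ k', a * sr k * a⁻¹ = sr k' := by
  have inv : ∀ s : Pm, s * s = 1 → (∀ k, ∃ k', s * sr k * s = sr k') → s ∈ Subgroup.normalizer (Set.range sr) := by
    intro s ss hs n
    have si : s⁻¹ = s := inv_eq_of_mul_eq_one_right ss
    rw [si]
    refine ⟨?_, fun ⟨k, e⟩ => ?_⟩
    · rintro ⟨k, rfl⟩; exact (hs k).imp fun _ e => e.symm
    · exact (hs k).imp fun _ f => by rw [← f, e, ← mul_assoc, ← mul_assoc, ss, one_mul, mul_assoc, ss, mul_one]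
  have h1 : ∀ k, sr k ∈ Subgroup.normalizer (Set.range sr) := fun k => inv _ (sr_sr k) fun b => ⟨_, sr_conj k b⟩
  have h2 : ng ∈ Subgroup.normalizer (Set.range sr) := inv _ (Equiv.ext fun i => Fin.ext (Ng_Ng _ i.2)) fun k =>
    ⟨k, Equiv.ext fun i => Fin.ext ((by decide +kernel : ∀ k < 36, ∀ i < 54, Ng (Rn k (Ng i)) = Rn k i) k k.2 i i.2)⟩
  have h3 : ∀ b, Iso b → b 0 = 0 → b ∈ Subgroup.normalizer (Set.range sr) := fun b hb e =>
    par (fx := 1) (C := CE6.st0) (by decide +kernel) (fun k hk => ⟨h1 k, fun i hi => by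
      obtain rfl : i = 0 := Fin.ext (Nat.testBit_one_eq_true_iff_self_eq_zero.1 hi)
      exact Fin.ext ((by decide +kernel : ∀ k < 36, CE6.st0.testBit k = true → Rn k 0 = 0) k k.2 hk)⟩) hb
      fun i hi => by rwa [show i = 0 from Fin.ext (Nat.testBit_one_eq_true_iff_self_eq_zero.1 hi)]
  have h4 : a ∈ Subgroup.normalizer (Set.range sr) := by
    obtain ⟨k, hk, k', hk', e | e⟩ := (by decide +kernel : ∀ p < 54, ∃ k < 36, ∃ k' < 36,
      Rn k' (Rn k p) = 0 ∨ Rn k' (Rn k (Ng p)) = 0) _ (a 0).2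
    · exact (mul_mem_cancel_left (mul_mem (h1 ⟨k', hk'⟩) (h1 ⟨k, hk⟩))).1
        (h3 _ (((iso_sr _).mul (iso_sr _)).mul ha) (Fin.ext e))
    · exact (mul_mem_cancel_left (mul_mem (mul_mem (h1 ⟨k', hk'⟩) (h1 ⟨k, hk⟩)) h2)).1
        (h3 _ ((((iso_sr _).mul (iso_sr _)).mul iso_ng).mul ha) (Fin.ext e))
  exact ((h4 (sr k)).1 ⟨k, rfl⟩).imp fun _ e => e.symm

/-- `sr k p = p ↔ sr k (c p) = c p`; check: `(∀ k < 36, Rn k p = p ↔ Rn k l = l) → l = p ∨ l = Ng p`; signs: `Dn 0 (Ng p) ≠ Dn 0 p`,
`Dn (Ng 0) p ≠ Dn 0 p`. -/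
theorem pm {c : Pm} (hc : Iso c) (h : ∀ k, c * sr k = sr k * c) : c = 1 ∨ c = ng := by
  have key : ∀ p : Fin 54, (c p : ℕ) = p ∨ (c p : ℕ) = Ng p := fun p =>
    (by decide +kernel : ∀ p < 54, ∀ l < 54, (∀ k < 36, Rn k p = p ↔ Rn k l = l) → l = p ∨ l = Ng p) _ p.2 _ (c p).2
      fun k hk => by
        have := congrArg (fun a : Pm => a p) (h ⟨k, hk⟩)
        simp only [Equiv.Perm.mul_apply] at this
        change (sr ⟨k, hk⟩ p : ℕ) = p ↔ (sr ⟨k, hk⟩ (c p) : ℕ) = c p
        rw [← this, Fin.val_inj, Fin.val_inj, c.injective.eq_iff]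
  have sg := (by decide +kernel : ∀ p < 54, Dn 0 (Ng p) ≠ Dn 0 p ∧ Dn (Ng 0) p ≠ Dn 0 p)
  refine (key 0).imp (fun e => Equiv.ext fun p => Fin.ext ((key p).resolve_right fun f => (sg p p.2).1 ?_))
    fun e => Equiv.ext fun p => Fin.ext ((key p).resolve_left fun f => (sg p p.2).2 ?_)
  · have := hc 0 p; rwa [e, f] at this
  · have := hc 0 p; rwa [e, f] at this

/-- the vectors fixed by the first two reflections: check -/
theorem b18_three {p : Fin 54} (h0 : sr 0 p = p) (h1 : sr 1 p = p) (h : ∀ b < 3, Dn p b = Dn 3 b) : p = 3 := by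
  exact Fin.ext ((by decide +kernel : ∀ p < 54, Rn 0 p = p → Rn 1 p = p → (∀ b < 3, Dn p b = Dn 3 b) → p = 3) _ p.2
    (congrArg Fin.val h0) (congrArg Fin.val h1) h)

theorem b18_ext {p l : Fin 54} (h0 : sr 0 p = p) (h1 : sr 1 p = p) (h0' : sr 0 l = l) (h1' : sr 1 l = l)
    (h : ∀ b < 4, Dn p b = Dn l b) : p = l := by
  exact Fin.ext ((by decide +kernel : ∀ p < 54, ∀ l < 54, (Rn 0 p = p ∧ Rn 1 p = p) ∧ (Rn 0 l = l ∧ Rn 1 l = l) ∧
    (∀ b < 4, Dn p b = Dn l b) → p = l) _ p.2 _ l.2 ⟨⟨congrArg Fin.val h0, congrArg Fin.val h1⟩,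
    ⟨congrArg Fin.val h0', congrArg Fin.val h1'⟩, h⟩)

/-- Generic parabolic lemma `par`: masks `fx` (points), `C` (reflections in `X`, fixing the points of `fx`), check `parB fx C`:
for `l < 6`, `p < 54` with `Dn p b = Dn l b` for all `b ∈ fx` and all `b < l`: `p = l` or `∃ k ∈ ok l, Rn k p = l ∨ ∃ k' ∈ ok l, Rn k' (Rn k p) = l`,
`ok l = {k ∈ C | ∀ b < l, Rn k b = b}`.  Then every isometry fixing `fx` is in `X` (downward induction on `l`: isometries fixing `fx` and the `b < l`;
`l = 6` is `ext6`).  Here `fx = 0b1111`, `C = GS 0`. -/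
theorem par0 {a : Pm} (ha : Iso a) (h : ∀ i : Fin 54, i.val < 4 → a i = i) : a ∈ Subgroup.closure {sr 0, sr 1} := by
  have m0 : sr 0 ∈ Subgroup.closure {sr 0, sr 1} := Subgroup.subset_closure (by simp)
  have m1 : sr 1 ∈ Subgroup.closure {sr 0, sr 1} := Subgroup.subset_closure (by simp)
  refine par (fx := 15) (C := GS 0) (by decide +kernel) (fun k hk => ⟨?_, fun i hi => Fin.ext
    ((by decide +kernel : ∀ k < 36, (GS 0).testBit k = true → ∀ i < 54, Nat.testBit 15 i = true → Rn k i = i) k k.2 hk i i.2 hi)⟩)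
    ha fun i hi => h i ((by decide +kernel : ∀ i < 54, Nat.testBit 15 i = true → i < 4) i i.2 hi)
  rcases CE6.gs0 k hk with rfl | rfl | rfl
  exacts [m0, m1, sr_conj 0 1 ▸ mul_mem (mul_mem m0 m1) m0]

/-- `Ψ = {k | sr k ∈ X ∧ ∃ k', sr k' ∈ X ∧ tn k k' ≠ k'}` (`tn k k' = k'` iff the reflections commute, symmetric), `B = {i | ∀ k ∈ Ψ, sr k i = i}`.
(a) `Ψ` is invariant under conjugation by `X` (`refl_conj`), so `B` is `X`-invariant, and `a, b ∈ Ψ → tn a b ∈ Ψ`.
(b) No `k₁, k₂, k₃, k₄` with reflections in `X`, `k₁, k₂` and `k₃, k₄` not commuting, the other pairs commuting: `u = s₁ s₂`, `v = s₃ s₄` commute, have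
cube `1` (check `tn a b ≠ b → tn a b = tn b a`, so `(s₁ s₂ s₁)(s₂ s₁ s₂) = 1`), `v ∉ ⟨u⟩` (`s₁` inverts `u`, centralises `v`), so `9 ∣ |X|`.
(c) `GS 0 = {0, 1, tn 0 1} ⊆ Ψ`.  If `GS c ⊆ Ψ ≠ GS c` there is `k ∈ Ψ \ GS c` not commuting with some `j ∈ GS c` (take `k` or its partner, else (b) with
`0, 1 ∈ GS c`).  Check: with `orb C N = N ∪ {Tn a b | b ∈ N, a ∈ C}` (outer loop over `b`), `m = C ∪ orb C (orb C {k})` contains `GS c'` for some `c < c' < 43`,
or `{9, 17}`, or `{8, 10}` (bad by (b) with `0, 1`).  So `Ψ = GS c` for some `c < 43`.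
(d) check for all `c < 43`: `fx c = {i | ∀ k ∈ GS c, Rn k i = i} ≠ 0`, `parB (fx c) (GS c)`. -/
theorem e6 (X : Subgroup Pm) (hX : ∀ x ∈ X, Iso x) (h0 : sr 0 ∈ X) (h1 : sr 1 ∈ X) (h9 : ¬ 9 ∣ Nat.card X) :
    ∃ B : Set (Fin 54), B.Nonempty ∧ (∀ x ∈ X, ∀ b ∈ B, x b ∈ B) ∧ (∀ b ∈ B, sr 0 b = b ∧ sr 1 b = b) ∧
      ∀ a, Iso a → (∀ b ∈ B, a b = b) → a ∈ X := by
  let Ψ : Fin 36 → Prop := fun k => sr k ∈ X ∧ ∃ k', sr k' ∈ X ∧ ¬ Commute (sr k) (sr k')
  have cj : ∀ x ∈ X, ∀ k, Ψ k → ∀ k', x * sr k * x⁻¹ = sr k' → Ψ k' := by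
    rintro x hx k ⟨m, j, mj, n⟩ k' e
    obtain ⟨j', f⟩ := refl_conj (hX x hx) j
    refine ⟨e ▸ mul_mem (mul_mem hx m) (inv_mem hx), j', f ▸ mul_mem (mul_mem hx mj) (inv_mem hx), fun c => n ?_⟩
    rw [← e, ← f] at c
    exact Commute.of_map (MulAut.conj x).injective c
  have cl : ∀ a b, Ψ a → Ψ b → Ψ (tn a b) := fun a b ha hb => cj _ ha.1 b hb _ (by rw [sr_inv, sr_conj])
  have n01 : ¬ Commute (sr 0) (sr 1) := mt CE6.comm_iff.1 (by decide +kernel)
  have p0 : Ψ 0 := ⟨h0, 1, h1, n01⟩
  have p1 : Ψ 1 := ⟨h1, 0, h0, fun c => n01 c.symm⟩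
  have bad : ∀ a b, sr a ∈ X → sr b ∈ X → ¬ Commute (sr a) (sr b) → Commute (sr a) (sr 0) → Commute (sr a) (sr 1) →
      Commute (sr b) (sr 0) → Commute (sr b) (sr 1) → False := fun a b ha hb n c1 c2 c3 c4 =>
    h9 (CE6.nine h0 h1 ha hb n01 n c1.symm c3.symm c2.symm c4.symm)
  obtain ⟨c, hc, hP, hm⟩ : ∃ c < 43, (∀ k : Fin 36, (GS c).testBit k = true → Ψ k) ∧
      ∀ c', c < c' → c' < 43 → ¬ ∀ k : Fin 36, (GS c').testBit k = true → Ψ k := by
    classical
    refine ⟨Nat.findGreatest (fun c => ∀ k : Fin 36, (GS c).testBit k = true → Ψ k) 42,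
      Nat.lt_succ_of_le (Nat.findGreatest_le 42), Nat.findGreatest_spec
        (P := fun c => ∀ k : Fin 36, (GS c).testBit k = true → Ψ k) (Nat.zero_le 42) fun k hk => ?_,
      fun c' a b => Nat.findGreatest_is_greatest a (Nat.le_of_lt_succ b)⟩
    rcases CE6.gs0 k hk with rfl | rfl | rfl
    exacts [p0, p1, cl _ _ p0 p1]
  have d := allLt_iff.1 CE6.chkD c hc
  simp only [force_eq, Bool.and_eq_true, Bool.not_eq_true', ← Bool.not_eq_true, Nat.beq_eq] at d
  obtain ⟨⟨⟨d1, d2⟩, d3⟩, d4⟩ := d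
  have step : ∀ k j : Fin 36, Ψ k → (GS c).testBit j = true → ¬ Commute (sr k) (sr j) → (GS c).testBit k = true := by
    intro k j hk hj n
    have e := allLt_iff.1 CE6.chkC c hc
    rw [force_eq] at e
    replace e := allLt_iff.1 e k k.2
    simp only [force_eq, Bool.or_eq_true, Bool.and_eq_true, Bool.not_eq_true', ← Bool.not_eq_true, Nat.beq_eq, anyLt_iff,
      Nat.blt_eq] at e
    have hM : ∀ l : Fin 36, (Nat.lor (GS c) (CE6.orb (GS c) (CE6.orb (GS c) (Nat.pow 2 k)))).testBit l = true → Ψ l :=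
      fun l hl => (Bool.or_eq_true_iff.1 ((Nat.testBit_or _ _ _).symm.trans hl)).elim (hP l)
        (CE6.orb_sub cl hP (CE6.orb_sub cl hP fun l hl => by
          rwa [show l = k from Fin.ext (CE6.tb2 hl).symm]) l)
    rcases e with (e | e) | (⟨c', h1, h2, e⟩ | e) | e
    · exact e
    · exact absurd ⟨j, j.2, hj, fun f => n (CE6.comm_iff.2 (Fin.ext f))⟩ e
    · refine absurd (fun l hl => hM l ?_) (hm c' h2 h1)
      rw [← e] at hl
      exact (Bool.and_eq_true_iff.1 ((Nat.testBit_and _ _ _).symm.trans hl)).2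
    · exact (bad 9 17 (hM 9 e.1).1 (hM 17 e.2).1 (mt CE6.comm_iff.1 (by decide +kernel)) (CE6.comm_iff.2 (by decide +kernel))
        (CE6.comm_iff.2 (by decide +kernel)) (CE6.comm_iff.2 (by decide +kernel)) (CE6.comm_iff.2 (by decide +kernel))).elim
    · exact (bad 8 10 (hM 8 e.1).1 (hM 10 e.2).1 (mt CE6.comm_iff.1 (by decide +kernel)) (CE6.comm_iff.2 (by decide +kernel))
        (CE6.comm_iff.2 (by decide +kernel)) (CE6.comm_iff.2 (by decide +kernel)) (CE6.comm_iff.2 (by decide +kernel))).elim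
  have hQ : ∀ k, Ψ k → (GS c).testBit k = true := fun k hk => by_contra fun n => by
    obtain ⟨j, mj, nj⟩ := hk.2
    have hj : Ψ j := ⟨mj, k, hk.1, fun c => nj c.symm⟩
    have n' : ¬ (GS c).testBit j = true := fun f => n (step k j hk f nj)
    exact bad k j hk.1 mj nj (by_contra fun f => n (step k 0 hk d3 f)) (by_contra fun f => n (step k 1 hk d4 f))
      (by_contra fun f => n' (step j 0 hj d3 f)) (by_contra fun f => n' (step j 1 hj d4 f))
  have hB : ∀ i : Fin 54, (CE6.fxm (GS c)).testBit i = true ↔ ∀ k, Ψ k → sr k i = i := fun i =>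
    (CE6.fxm_iff _ i).trans (forall_congr' fun k => imp_congr_left ⟨hP k, hQ k⟩)
  refine ⟨{i | ∀ k, Ψ k → sr k i = i}, ?_, fun x hx b hb k hk => ?_, fun b hb => ⟨hb 0 p0, hb 1 p1⟩, fun a ha h =>
    par d2 (fun k hk => ⟨(hP k hk).1, fun i hi => (hB i).1 hi k (hP k hk)⟩) ha fun i hi => h i ((hB i).1 hi)⟩
  · obtain ⟨i, hi⟩ := Nat.exists_testBit_of_ne_zero d1
    exact ⟨⟨i, CE6.fxm_lt hi⟩, (hB ⟨i, CE6.fxm_lt hi⟩).1 hi⟩
  · obtain ⟨k', e⟩ := refl_conj (hX x hx).inv k
    have := hb k' (cj _ (inv_mem hx) k hk k' e)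
    rw [← e] at this
    simp only [Equiv.Perm.mul_apply, inv_inv] at this
    exact Equiv.Perm.inv_eq_iff_eq.1 this

end CL.U4.C3
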