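/- S5210, `q = 3`: the minimal vectors fixed by `z`. -/
import Cfsg.Agent.FUS.U4.CDat

set_option autoImplicit false
set_option maxRecDepth 100000
set_option exponentiation.threshold 700

namespace CL.U4.C3
open Cfsg CL.Leech CL.MT CL.K CL.Pack
open CL.Golay (E)

namespace Fx

def CLs : ℕ := 0x4002001000800400200100080040020010008004002001000c0020020010008004002001000800400200100080040020010008004002001000800400200100080020020018008004002001000800400200100080040020010008004002001000800400200100080040020018008004001001000800400200100080040020014008004002001400a0040018014006004002001000a0050020010008004002800c008004002801000800400200100080040028010008003001801000800300200140080040020014006004002001400800400200100080040020014008004002800c008004002801000a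
def CT : ℕ := 0x6d861b61948a49229349a44930b4916524524d149345a6d165b45269145a4592934ca4cb2532c94d24534914ca4932d265148b2d265948b4d36524d96512cb44b4892cb6d94492d36d964a2cc28b4da65169960a49269244a49345245349245249248a49245248b49264930c69249349349a4924d2492692493
def CC (k : ℕ) : ℕ := fld 312 (2 ^ 312 - 1) CLs k
def ct (i k : ℕ) : ℕ := fld 3 7 CT (6 * i + k)
noncomputable def cv (k : Fin 6) : leechLattice := lvv (CC k)
theorem ok_c : ∀ k : Fin 6, isL (CC k) = true ∧ dotC (CC k) (CC k) = 32 ∧ ap (cc 4) (CC k) ≠ CC k := by decide +kernel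
theorem coe_cv (k : Fin 6) : (cv k : GolayPt → ℤ) = vec (CC k) := coe_lvv (ok_c k).1
theorem nrm_cv (k : Fin 6) : sqNorm (cv k : GolayPt → ℤ) = 32 := by rw [coe_cv, sqNorm_vec, (ok_c k).2.1]
theorem cv_ne (k : Fin 6) : el 4 • cv k ≠ cv k := fun e => (ok_c k).2.2 (by
  have := rep_el (j := 4) (by norm_num) (cv k) (by rw [nrm_cv]; norm_num)
  rwa [e, cv, enc_lvv (ok_c k).1] at this)

noncomputable def N (x : leechLattice) : GolayPt → ℤ := x.1 + (el 4 • x).1 + (el 4 • el 4 • x).1
noncomputable def nz (X e : ℕ) : ℤ := (dg X e : ℤ) + dg (ap (cc 4) X) e + dg (ap (cc 4) (ap (cc 4) X)) e - 24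

theorem N_apply {x : leechLattice} (h : sqNorm (x : GolayPt → ℤ) ≤ 80) (p : GolayPt) : N x p = nz (enc x) (E.enc p) := by
  have r := rep_el (j := 4) (by norm_num)
  have h1 := (sqNorm_smul (el 4) x).trans_le h
  have h2 := (sqNorm_smul (el 4) _).trans_le h1
  have e0 := congrFun (vec_enc (bd_of_sqNorm h)) p
  have e1 := congrFun (vec_enc (bd_of_sqNorm h1)) p
  have e2 := congrFun (vec_enc (bd_of_sqNorm h2)) p
  rw [nz, r x h, r _ h1, N, Pi.add_apply, Pi.add_apply, ← e0, ← e1, ← e2]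
  simp only [vec]
  ring

theorem dot_N {y : leechLattice} (hz : el 4 • y = y) (x : leechLattice) : dotInt (N x) y = 3 * dotInt (x : GolayPt → ℤ) y := by
  have : ∀ x : leechLattice, dotInt ((el 4 • x).1) y = dotInt (x : GolayPt → ℤ) y := fun x => by
    conv_lhs => rw [← hz]
    exact dot_smul _ _ _
  rw [N, dot_add_left, dot_add_left, this, this, this]
  ring

def lam (k e : ℕ) : ℤ := (dg (VC k) e : ℤ) - if k = 4 then dg (VC 0) e else 8
def B (k : Fin 6) : GolayPt → ℤ := fun p => lam k (E.enc p)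

theorem ok_N : ∀ i < 24, ∀ e < 24, nz (c8 i) e = ∑ k : Fin 6, lam k i * nz (CC k) e := by decide +kernel

theorem key {y : leechLattice} (hz : el 4 • y = y) (p : GolayPt) :
    8 * (y : GolayPt → ℤ) p = ∑ k, dotInt (cv k : GolayPt → ℤ) y * B k p := by
  have e : N (e8 p) = ∑ k, B k p • N (cv k) := funext fun r => by
    rw [N_apply (by rw [sqNorm_e8]; norm_num), enc_e8, ok_N _ (E.enc_lt p) _ (E.enc_lt r), Finset.sum_apply]
    refine Finset.sum_congr rfl fun k _ => ?_
    rw [Pi.smul_apply, N_apply (by rw [nrm_cv]; norm_num), cv, enc_lvv (ok_c k).1]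
    rfl
  have := dot_N hz (e8 p)
  rw [e, show dotInt (e8 p : GolayPt → ℤ) y = 8 * (y : GolayPt → ℤ) p by simp [coe_e8, dotInt, Pi.single_apply]] at this
  simp only [Fin.sum_univ_six, dot_add_left, dot_zsmul_left, dot_N hz] at this ⊢
  linarith

def gm : Fin 6 → Fin 6 → ℤ := ![![4, 2, -1, 2, -2, 2], ![2, 4, 1, 1, -1, 1], ![-1, 1, 4, 1, 2, 1], ![2, 1, 1, 4, -1, 1],
  ![-2, -1, 2, -1, 4, -1], ![2, 1, 1, 1, -1, 4]]
theorem dot_B : ∀ k l, dotInt (B k) (B l) = 8 * gm k l := by decide +kernel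

def qf (a b c d e f : ℤ) : ℤ := 2 * (a * a + b * b + c * c + d * d + e * e + f * f) + a * (2 * (b + d - e + f) - c) +
  b * (c + d - e + f) + c * (d + 2 * e + f) + d * (f - e) - e * f

def chk (a b c d e f : ℕ) : Bool := decide (qf (a - 2) (b - 2) (c - 2) (d - 2) (e - 2) (f - 2) = 2 →
  ∃ i : Fin 54, ct i 0 = a ∧ ct i 1 = b ∧ ct i 2 = c ∧ ct i 3 = d ∧ ct i 4 = e ∧ ct i 5 = f)

theorem enum : allLt (fun a => allLt (fun b => allLt (fun c => allLt (fun d => allLt (fun e => allLt (chk a b c d e) 5) 5) 5) 5) 5) 5 = true := by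
  decide +kernel

theorem ok_ct : ∀ (i : Fin 54) (k : Fin 6), dotC (CC k) (VC i) = 8 * ((ct i k : ℤ) - 2) := by decide +kernel

end Fx
open Fx

theorem fixz (y : leechLattice) (h : dotInt (y : GolayPt → ℤ) y = 32) (hz : el 4 • y = y) : ∃ i, y = vv i := by
  have ex : ∀ k, ∃ a < 5, dotInt (cv k : GolayPt → ℤ) y = 8 * (((a : ℕ) : ℤ) - 2) := fun k => by
    have h1 := dot_le_of_norms (x := cv k) (y := y) fun e => cv_ne k (by rw [e, hz])
    have h2 := neg_le_dot_of_norms (x := cv k) (y := y) fun e => cv_ne k (by rw [e, smul_neg, hz])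
    obtain ⟨n, e⟩ := eight_dvd_dot (cv k).2 y.2
    rw [nrm_cv, sqNorm_eq_dot, h] at h1 h2
    exact ⟨(n + 2).toNat, by omega, by omega⟩
  choose a ha e using ex
  have hy : (y : GolayPt → ℤ) = ∑ k, ((a k : ℤ) - 2) • B k := funext fun p => by
    have := key hz p
    simp only [Fin.sum_univ_six, e, Pi.add_apply, Pi.smul_apply, smul_eq_mul] at this ⊢
    linarith
  rw [hy] at h
  simp only [Fin.sum_univ_six, dot_add_left, dot_add_right, dot_zsmul_left, dot_zsmul_right, dot_B] at h
  obtain ⟨i, hi⟩ := of_decide_eq_true (allLt_iff.1 (allLt_iff.1 (allLt_iff.1 (allLt_iff.1 (allLt_iff.1 (allLt_iff.1 enum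
    _ (ha 0)) _ (ha 1)) _ (ha 2)) _ (ha 3)) _ (ha 4)) _ (ha 5)) (by simp [gm] at h; unfold qf; linarith)
  refine ⟨i, Subtype.ext (funext fun p => ?_)⟩
  have h1 := key hz p
  have h2 := key (q_vv (j := 4) (by norm_num) i) p
  have : ∀ k, dotInt (cv k : GolayPt → ℤ) (vv i) = 8 * ((ct i k : ℤ) - 2) := fun k => by
    rw [coe_cv, vv, coe_lvv (isL_VC i), dot_vec, ok_ct]
  obtain ⟨e0, e1, e2, e3, e4, e5⟩ := hi
  simp only [Fin.sum_univ_six, e, this, ← e0, ← e1, ← e2, ← e3, ← e4, ← e5] at h1 h2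
  exact mul_left_cancel₀ (by norm_num : (8 : ℤ) ≠ 0) (h1.trans h2.symm)

end CL.U4.C3
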