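/- S5210, `q = 3`: the Sylow subgroup inside the lattice group. -/
import Cfsg.Agent.FUS.U4.Model
import Cfsg.Agent.FUS.U4.Fld
import Cfsg.Agent.CLAS.UniCongr
import Cfsg.Agent.S1582

set_option autoImplicit false

namespace CL.U4.C3
open CL.Fus Subgroup Cfsg CL.Leech CL.U5.Un
open CL.U5 (Un)

/-- `Fintype.ofFinite K`, `hK : card K = 3 ^ 2` (`card_K`), `σ = Uni.sig hK` (`σ_pow`; `subst`), `exists_Md hK 3` gives `e : U σ →* PSU 4 K 3` injective of index prime to `3`;
`Uni.nonempty_psuCongr` / `psuCongr` with `CL.F24.card_F9`, `Cfsg.Agent.S1582.iso`: an injective `e' : U σ →* GU43` of index prime to `3`.  So `e'.range` and `S.subgroupOf GU43` are Sylow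
`3`-subgroups of `GU43` (`card_GU43 = 3 ^ 6 * 4480`, `isPGroup_U`), conjugate them. -/
theorem exists_iota {K : Type*} [Field K] [Finite K] {σ : K →+* K} [T : Un σ] [CharP K 3] (hq : Nat.card (Fix σ) = 3) {S : Subgroup Co0}
    (hS : S ≤ GU43) (hc : Nat.card S = 3 ^ 6) : ∃ ι : U σ →* Co0, Function.Injective ι ∧ ι.range = S := by
  have := Fintype.ofFinite K
  have : Fact (Nat.Prime 3) := ⟨by norm_num⟩
  have hK : Fintype.card K = 3 ^ 2 := by rw [← Nat.card_eq_fintype_card, card_K (σ := σ), hq]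
  obtain rfl : σ = Uni.sig hK := RingHom.ext fun x => by rw [σ_pow, hq, Uni.sig_apply]
  obtain ⟨-, -, e, he, hi⟩ := exists_Md hK 3
  obtain ⟨f⟩ := Uni.nonempty_psuCongr (hK.trans CL.F24.card_F9.symm) 4 3
  obtain ⟨g⟩ := Cfsg.Agent.S1582.iso
  let φ : PSU 4 K 3 ≃* GU43 := f.trans g.symm
  let e' : U (Uni.sig hK) →* GU43 := φ.toMonoidHom.comp e
  have he' : Function.Injective e' := φ.injective.comp he
  have hi' : ¬ 3 ∣ e'.range.index := by
    rw [MonoidHom.range_comp, index_map_of_bijective (f := φ.toMonoidHom) φ.bijective]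
    exact hi
  let P : Sylow 3 GU43 := IsPGroup.toSylow ((isPGroup_U 3).of_surjective _ e'.rangeRestrict_surjective) hi'
  have c : Nat.card (S.subgroupOf GU43) = 3 ^ 6 := (Nat.card_congr (subgroupOfEquivOfLe hS).toEquiv).trans hc
  let Q : Sylow 3 GU43 := IsPGroup.toSylow (IsPGroup.of_card c) (by
    have := (S.subgroupOf GU43).card_mul_index
    rw [c, card_GU43] at this
    omega)
  obtain ⟨x, hx⟩ := MulAction.exists_smul_eq GU43 P Q
  have hx' : e'.range.map (MulAut.conj x).toMonoidHom = S.subgroupOf GU43 :=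
    congrArg (fun R : Sylow 3 GU43 => (R : Subgroup GU43)) hx
  refine ⟨GU43.subtype.comp ((MulAut.conj x).toMonoidHom.comp e'),
    (subtype_injective _).comp ((MulAut.conj x).injective.comp he'), ?_⟩
  rw [MonoidHom.range_comp, MonoidHom.range_comp, hx', subgroupOf_map_subtype, inf_eq_left.2 hS]

end CL.U4.C3
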