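/-
S5210: the case `q = 3` (helper20).
-/
import Cfsg.Agent.FUS.U4.VA
import Cfsg.Agent.FUS.U4.VD
import Cfsg.Agent.FUS.U4.Ess
import Cfsg.Agent.FUS.U4.QA
import Cfsg.Agent.FUS.U4.CGlue
import Cfsg.Agent.FUS.U4.CFix
import Cfsg.Agent.FUS.U4.CTr
import Cfsg.Agent.FUS.U4.CCard
import Cfsg.Agent.FUS.U4.CIota

set_option autoImplicit false
set_option linter.unusedSimpArgs false
set_option linter.unusedSectionVars false
set_option linter.unusedVariables false

namespace CL.U4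

namespace C3
open Cfsg CL.Leech

theorem exists_low : ∃ L : Low Co0 leechLattice, L.vec = vv := by
  obtain ⟨tr, t0, t1, t2, t3, t4⟩ := exists_tr
  have gg : (el 12)⁻¹ = el 12 := inv_eq_of_mul_eq_one_left (by simpa [RL, wd] using rl 17)
  obtain ⟨p1, -, p3, -⟩ := ph_gen
  have m : ∀ j < 6, el j ∈ ps.range := fun j hj => by
    obtain ⟨h1, h2, h3, h4, h5⟩ := ph_gen
    interval_cases j
    exacts [⟨_, (ps_inq _).trans h1⟩, ⟨_, (ps_inq _).trans h2⟩, ⟨_, (ps_inq _).trans h3⟩, ⟨_, (ps_inq _).trans h4⟩, ⟨_, ps_zm⟩, ⟨_, ps_tm⟩]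
  refine ⟨{
    ψ := ps
    gn := fun j => el (6 + j)
    g := el 12
    n := neg1
    vec := vv
    dot := fun u v => dotInt (u : GolayPt → ℤ) v
    tr := tr
    inj := ps_inj
    dot_smul := dot_smul
    dot_vec := dot_vv
    fixz := fun y h hz => fixz y h (by rwa [ps_zm] at hz)
    q_vec := fun x i => by rw [ps_inq, ph_vv]
    t_vec := fun i => by rw [ps_tm, t_vv]
    gn_vec := fun j hj => gn_vv hj
    n_vec := n_vv
    gn_act := fun j hj x => by rw [ps_inq, ps_inq, gn_act hj]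
    dt := by
      rw [ps_tm, mul_inv_eq_iff_eq_mul, eq_inv_mul_iff_mul_eq]
      simpa [RL, wd] using rl 16
    n_comm := fun x => (Subgroup.mem_center_iff.1 neg1_mem_center x).symm
    nn := neg1_mul_self
    stab := fun i => by rw [card_stab_32 (nrm_vv i)]; norm_num
    cardP := cardP
    tr_conj := t0
    tr_z := by rw [ps_zm, t1]
    tr_z' := by rw [ps_zm, t2]
    tr_tz := by rw [ps_zm, ps_tm, t3]
    tr_tz' := by rw [ps_zm, ps_tm, t4]
    g_vec := fun i hi => g_vv (by omega)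
    gz := by rw [ps_zm, ps_tm, mul_inv_eq_iff_eq_mul]; simpa [RL, wd] using rl 18
    gt := by rw [ps_zm, ps_tm, mul_inv_eq_iff_eq_mul]; simpa [RL, wd] using rl 19
    g1 := by rw [ps_inq, ps_inq, p1, p3, mul_inv_eq_iff_eq_mul]; simpa [RL, wd] using rl 20
    g3 := by rw [ps_inq, ps_inq, p1, p3, mul_inv_eq_iff_eq_mul]; simpa [RL, wd] using rl 21
    dW := ?_ }, rfl⟩
  have e : el 6 = el 1 * (el 12 * el 1 * (el 12)⁻¹) * (el 12 * el 3 * (el 12)⁻¹) * el 1 * el 1 * (el 12 * el 1 * (el 12)⁻¹) *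
      (el 12 * (el 4 * el 4) * (el 12)⁻¹) * el 1 * el 1 := by
    rw [gg]; simpa [RL, wd, mul_assoc] using rl 22
  have a : ∀ j < 6, el j ∈ ps.range ⊔ Fus.img (Fus.cj (el 12)) ps.range := fun j hj => Subgroup.mem_sup_left (m j hj)
  have b : ∀ {x}, x ∈ ps.range → el 12 * x * (el 12)⁻¹ ∈ ps.range ⊔ Fus.img (Fus.cj (el 12)) ps.range := fun h =>
    Subgroup.mem_sup_right (Fus.mem_img_of_mem _ h)
  have a1 := a 1 (by norm_num)
  have b1 := b (m 1 (by norm_num))
  have m4 := m 4 (by norm_num)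
  rw [add_zero, e]
  exact mul_mem (mul_mem (mul_mem (mul_mem (mul_mem (mul_mem (mul_mem (mul_mem a1 b1) (b (m 3 (by norm_num)))) a1) a1) b1)
    (b (mul_mem m4 m4))) a1) a1

theorem exists_low' : ∃ L : Low Co0 leechLattice, L.H = GU43 := by
  obtain ⟨L, h⟩ := exists_low
  exact ⟨L, by rw [Low.H, h, H_eq]⟩

end C3

open CL.Fus CL.RF4 Subgroup Cfsg Cfsg.FusionSystem U CL.U5.Un
open CL.U5 (Un Dg ru σu ru_val σu_val map_σ Cp Qd Pr)
open scoped commutatorElement

variable {K : Type*} [Field K] [Finite K] {σ : K →+* K} [T : Un σ] {p : ℕ} [Fact p.Prime] [CharP K p]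
  {F F' : FusionSystem (⊤ : Subgroup (U σ))}

theorem q3 (hq : Nat.card (Fix σ) = 3) (hF : F.IsSaturated p) (hV : F.IsEssential p sV) (hQ : F.IsEssential p sQ) (h1 : VStd F)
    (h2 : Std F) : F.IsRealizable p := by
  obtain rfl : p = 3 := by
    obtain ⟨n, hn, e⟩ := card_fix (σ := σ) p
    exact (Nat.prime_dvd_prime_iff_eq Fact.out Nat.prime_three).1 (hq ▸ e ▸ dvd_pow_self p hn.ne')
  have := CL.Leech.finite_Co0
  obtain ⟨L, hL⟩ := C3.exists_low'
  obtain ⟨A, hS, -, -, hH⟩ := L.exists_amb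
  obtain ⟨ι, hι, hr⟩ := C3.exists_iota hq (A.SH.trans_eq (hH.trans hL)) A.cardS
  exact C3.glue L hq ι hι (hr.trans hS) hF h1

end CL.U4
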