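/-
S5210: assembly.
-/
import Cfsg.Agent.FUS.U4.Real
import Cfsg.Agent.FUS.U4.Std
import Cfsg.Agent.FUS.U4.VC
import Cfsg.Agent.FUS.U4.Q2
import Cfsg.Agent.FUS.U4.Q3
import Cfsg.Agent.FUS.S4.Tools

set_option autoImplicit false
set_option linter.unusedSimpArgs false
set_option linter.unusedSectionVars false
set_option linter.unusedVariables false

namespace CL.U4

open CL.Fus CL.RF4 Subgroup Cfsg Cfsg.FusionSystem U CL.U5.Un
open CL.U5 (Un Dg ru σu ru_val σu_val map_σ Cp Qd Pr)
open scoped commutatorElement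

variable {K : Type*} [Field K] [Finite K] {σ : K →+* K} [T : Un σ] {p : ℕ} [Fact p.Prime] [CharP K p]
  {F F' : FusionSystem (⊤ : Subgroup (U σ))}

theorem main {G : Type*} [Group G] [Finite G] (M : Md σ p G) (hF : F.IsSaturated p) (hc : F.core = ⊥) : F.IsRealizable p := by
  by_cases hN : NT F
  · exact q2 (hN.two hF) hF hN hc
  by_cases h : F.IsEssential p sV ∧ F.IsEssential p sQ
  · obtain ⟨β, F₁, c1, h1⟩ := exists_vstd hF hN h.1
    obtain ⟨γ, F₂, c2, h2, hS⟩ := exists_std (c1.isSaturated hF) h1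
    have c := c1.trans c2
    replace hF := c.isSaturated hF
    have e : ∀ P : Subgroup (U σ), (∀ (α : MulAut (U σ)) g, α g ∈ P ↔ g ∈ P) → F.IsEssential p P → F₂.IsEssential p P := fun P hP k => by
      have := (c.isEssential_iff (p := p) (le_top : P ≤ ⊤)).2 k
      rwa [show img (γ ∘ β) P = P from le_antisymm (img_le_iff.2 fun x hx => (hP γ _).2 ((hP β _).2 hx)) fun x hx => by
        have := mem_img_of_mem (γ ∘ β) (show β.symm (γ.symm x) ∈ P from (hP β.symm _).2 ((hP γ.symm _).2 hx))
        simpa using this] at this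
    have hV := e _ (fun α g => (aut_iff α g).2.2.1) h.1
    have hQ := e _ (fun α g => (aut_iff α g).2.2.2) h.2
    refine c.symm.isRealizable ?_
    by_cases hq : Nat.card (Fix σ) = 3
    · exact q3 hq hF hV hQ h2 hS
    have h0 := h0_mem hF h2 hS
    have hp := ptQ hq hF hS h0
    exact realizable M hq hF h2.1 hS (ts_mem hF hp hQ hS h0) h2.wV_mem (wQ_mem hF hp hQ hS h0)
  refine S4F.realizable_of_constrained (isPGroup_top p) (S4F.constrained_of_unique (isPGroup_top p) hF fun R R' hR hR' => ?_)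
  rcases ess_cases hF hN hR with rfl | rfl <;> rcases ess_cases hF hN hR' with rfl | rfl
  exacts [rfl, absurd ⟨hR, hR'⟩ h, absurd ⟨hR', hR⟩ h, rfl]

end CL.U4
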